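import Groth.Agent.LocFree.Props
import Groth.Prelude.Def_FlatMod2
import Groth.Agent.InjFibre.Loc
import Mathlib

/-!
# Flatness of a quasi-coherent module over a base, on affine opens
-/

set_option autoImplicit false
set_option backward.isDefEq.respectTransparency false

universe u

open CategoryTheory CategoryTheory.Limits AlgebraicGeometry TopologicalSpace Opposite Groth.Agent.QC

namespace Groth.Agent.FlatModB

variable {X S : Scheme.{u}} (f : X ⟶ S) (F : X.Modules)

/-- `Γ(F, U)` as a module over `Γ(S, V)`. -/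
noncomputable abbrev secModule (U : X.Opens) (V : S.Opens) (h : U ≤ f ⁻¹ᵁ V) :
    Module Γ(S, V) Γ(F, U) :=
  Module.compHom Γ(F, U) (f.appLE V U h).hom

/-- The stalk as a module over the sections of an open containing the image. -/
noncomputable abbrev stalkModule (x : X) (V : S.Opens) (hx : f x ∈ V) :
    Module Γ(S, V) (F.presheaf.stalk x) :=
  Module.compHom (F.presheaf.stalk x) ((S.presheaf.germ V (f x) hx) ≫ f.stalkMap x).hom

theorem isFlatOverAt_iff (x : X) {V : S.Opens} (hV : IsAffineOpen V) (hx : f x ∈ V) :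
    FlatMod.IsFlatOverAt f F x ↔
      (letI := stalkModule f F x V hx; Module.Flat Γ(S, V) (F.presheaf.stalk x)) := by
  letI := stalkModule f F x V hx
  letI := FlatMod.moduleStalkOver f F x
  letI := S.presheaf.algebra_section_stalk (⟨f x, hx⟩ : V)
  haveI : IsLocalization.AtPrime (S.presheaf.stalk (f x))
    (hV.primeIdealOf ⟨f x, hx⟩).asIdeal := hV.isLocalization_stalk ⟨f x, hx⟩
  haveI : IsScalarTower Γ(S, V) (S.presheaf.stalk (f x)) (F.presheaf.stalk x) :=
    ⟨fun a c m => by
      change (f.stalkMap x).hom ((S.presheaf.germ V (f x) hx).hom a * c) • m =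
        ((S.presheaf.germ V (f x) hx ≫ f.stalkMap x).hom a) • ((f.stalkMap x).hom c • m)
      rw [map_mul, mul_smul]; rfl⟩
  exact Module.flat_iff_of_isLocalization (S.presheaf.stalk (f x))
    (hV.primeIdealOf ⟨f x, hx⟩).asIdeal.primeCompl _

/-- Flatness of the sections over an affine open is pointwise flatness over the base. -/
theorem flat_sections_iff (hF : Coh.IsQCoh F) {U : X.Opens} (hU : IsAffineOpen U) {V : S.Opens}
    (hV : IsAffineOpen V) (h : U ≤ f ⁻¹ᵁ V) :
    (letI := secModule f F U V h; Module.Flat Γ(S, V) Γ(F, U)) ↔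
      ∀ x ∈ U, FlatMod.IsFlatOverAt f F x := by
  letI := secModule f F U V h
  letI : Algebra Γ(S, V) Γ(X, U) := (f.appLE V U h).hom.toAlgebra
  haveI : IsScalarTower Γ(S, V) Γ(X, U) Γ(F, U) :=
    ⟨fun a c m => mul_smul ((f.appLE V U h).hom a) c m⟩
  have hgerm : ∀ (x : X) (hx : x ∈ U) (a : Γ(S, V)),
      ((S.presheaf.germ V (f x) (h hx) ≫ f.stalkMap x).hom a) =
        (X.presheaf.germ U x hx).hom ((f.appLE V U h).hom a) := fun x hx a => by
    rw [← CommRingCat.comp_apply, Scheme.Hom.germ_stalkMap, Scheme.Hom.appLE, Category.assoc,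
      X.presheaf.germ_res]
  refine ⟨fun hflat x hx => ?_, fun hflat => ?_⟩
  · rw [isFlatOverAt_iff f F x hV (h hx)]
    letI := stalkModule f F x V (h hx)
    letI := Module.compHom (F.presheaf.stalk x) (X.presheaf.germ U x hx).hom
    haveI : IsScalarTower Γ(S, V) Γ(X, U) (F.presheaf.stalk x) :=
      ⟨fun a c m => by
        change (X.presheaf.germ U x hx).hom ((f.appLE V U h).hom a * c) • m =
          ((S.presheaf.germ V (f x) (h hx) ≫ f.stalkMap x).hom a) •
            ((X.presheaf.germ U x hx).hom c • m)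
        rw [map_mul, mul_smul, hgerm]⟩
    obtain ⟨g, hg⟩ := LocFree.exists_stalkMap hU hF hx
    haveI := hg
    haveI := hflat
    exact InjFibre.flat_localized (R := Γ(S, V)) (hU.primeIdealOf ⟨x, hx⟩).asIdeal.primeCompl g
  · refine Module.flat_of_isLocalized_maximal (R := Γ(S, V)) Γ(X, U) Γ(F, U)
      (fun P _ => LocalizedModule P.primeCompl Γ(F, U))
      (fun P _ => LocalizedModule.mkLinearMap P.primeCompl _) fun P hP => ?_
    let z : PrimeSpectrum Γ(X, U) := ⟨P, hP.isPrime⟩
    have hx : hU.fromSpec z ∈ U := hU.range_fromSpec.subset ⟨z, rfl⟩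
    let x : X := hU.fromSpec z
    have hprime : (hU.primeIdealOf ⟨x, hx⟩).asIdeal = P :=
      congrArg PrimeSpectrum.asIdeal (show hU.primeIdealOf ⟨x, hx⟩ = z from
        hU.fromSpec.isOpenEmbedding.injective (hU.fromSpec_primeIdealOf ⟨x, hx⟩))
    have hfl := (isFlatOverAt_iff f F x hV (h hx)).1 (hflat x hx)
    letI := stalkModule f F x V (h hx)
    letI := Module.compHom (F.presheaf.stalk x) (X.presheaf.germ U x hx).hom
    haveI : IsScalarTower Γ(S, V) Γ(X, U) (F.presheaf.stalk x) :=
      ⟨fun a c m => by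
        change (X.presheaf.germ U x hx).hom ((f.appLE V U h).hom a * c) • m =
          ((S.presheaf.germ V (f x) (h hx) ≫ f.stalkMap x).hom a) •
            ((X.presheaf.germ U x hx).hom c • m)
        rw [map_mul, mul_smul, hgerm]⟩
    obtain ⟨g, hg⟩ := LocFree.exists_stalkMap hU hF hx
    haveI : IsLocalizedModule P.primeCompl g := by
      convert hg using 2
      exact hprime.symm
    exact Module.Flat.of_linearEquiv
      ((IsLocalizedModule.iso P.primeCompl g).restrictScalars Γ(S, V))

/-- Flatness over the base, checked on affine opens. -/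
theorem isFlatOver_iff (hF : Coh.IsQCoh F) :
    FlatMod.IsFlatOver f F ↔ ∀ (U : X.Opens) (V : S.Opens) (h : U ≤ f ⁻¹ᵁ V),
      IsAffineOpen U → IsAffineOpen V →
        (letI := secModule f F U V h; Module.Flat Γ(S, V) Γ(F, U)) := by
  refine ⟨fun hflat U V h hU hV => (flat_sections_iff f F hF hU hV h).2 fun x _ => hflat x,
    fun hflat x => ?_⟩
  obtain ⟨V, hV, hfx, -⟩ := exists_isAffineOpen_mem_and_subset (X := S) (x := f x) (U := ⊤) trivial
  obtain ⟨U, hU, hx, hUV⟩ := exists_isAffineOpen_mem_and_subset (X := X) (x := x) (U := f ⁻¹ᵁ V) hfx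
  exact (flat_sections_iff f F hF hU hV hUV).1 (hflat U V hUV hU hV) x hx

end Groth.Agent.FlatModB
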