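import Groth.Agent.FlatModB.PureAlg
import Mathlib

/-! # flat closed subschemes -/

set_option autoImplicit false
set_option backward.isDefEq.respectTransparency false

universe u

open CategoryTheory AlgebraicGeometry TopologicalSpace

namespace Groth.Agent.FlatModB

variable {X : Scheme.{u}}

theorem flat_subschemeι_iff (I : X.IdealSheafData) :
    Flat I.subschemeι ↔ ∀ U, (I.ideal U).Pure := by
  have key : ∀ U : X.affineOpens,
      (I.subschemeι.appLE U.1 (I.subschemeι ⁻¹ᵁ U.1) le_rfl).hom.Flat ↔ (I.ideal U).Pure := by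
    intro U
    rw [← Scheme.Hom.app_eq_appLE]
    let φ := (I.subschemeι.app U.1).hom
    letI := φ.toAlgebra
    have e : (Γ(X, U.1) ⧸ I.ideal U) ≃ₐ[Γ(X, U.1)] Γ(I.subscheme, I.subschemeι ⁻¹ᵁ U.1) :=
      (Ideal.quotientEquivAlgOfEq Γ(X, U.1) (I.ker_subschemeι_app U).symm).trans
        (Ideal.quotientKerAlgEquivOfSurjective (f := Algebra.ofId Γ(X, U.1) _)
          (I.subschemeι_app_surjective U))
    exact ⟨fun (h : Module.Flat _ _) => Module.Flat.of_linearEquiv e.toLinearEquiv,
      fun h => Module.Flat.of_linearEquiv e.toLinearEquiv.symm⟩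
  constructor
  · intro h U
    exact (key U).1 (HasRingHomProperty.appLE @Flat I.subschemeι h U
      ⟨_, U.2.preimage I.subschemeι⟩ le_rfl)
  · intro h
    refine (HasRingHomProperty.iff_exists_appLE (P := @Flat)
      (RingHom.Flat.stableUnderComposition.stableUnderCompositionWithLocalizationAway
        RingHom.Flat.holdsForLocalizationAway).1).2 fun z => ?_
    obtain ⟨U, hU, hzU, -⟩ := exists_isAffineOpen_mem_and_subset (X := X) (x := I.subschemeι z) (U := ⊤) trivial
    exact ⟨⟨U, hU⟩, ⟨_, hU.preimage I.subschemeι⟩, hzU, le_rfl, (key ⟨U, hU⟩).2 (h _)⟩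

theorem zeroLocus_ideal (I : X.IdealSheafData) (U : X.affineOpens) :
    PrimeSpectrum.zeroLocus (I.ideal U : Set Γ(X, U.1)) = U.2.fromSpec ⁻¹' (I.support : Set X) := by
  ext p
  have hp : U.2.fromSpec p ∈ U.1 := U.2.range_fromSpec.subset ⟨p, rfl⟩
  rw [← U.2.fromSpec_preimage_zeroLocus]
  exact (I.mem_support_iff_of_mem hp).symm

/-- germs at points of the support of a flat closed subscheme kill the ideal -/
theorem germ_eq_zero (I : X.IdealSheafData) (hI : Flat I.subschemeι) (U : X.affineOpens) {x : X}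
    (hxU : x ∈ U.1) (hx : x ∈ I.support) {a : Γ(X, U.1)} (ha : a ∈ I.ideal U) :
    (X.presheaf.germ U.1 x hxU).hom a = 0 := by
  letI := X.presheaf.algebra_section_stalk (⟨x, hxU⟩ : U.1)
  have := U.2.isLocalization_stalk ⟨x, hxU⟩
  let p := U.2.primeIdealOf ⟨x, hxU⟩
  have hle : I.ideal U ≤ p.asIdeal := by
    have : p ∈ PrimeSpectrum.zeroLocus (I.ideal U : Set Γ(X, U.1)) := by
      rw [zeroLocus_ideal, Set.mem_preimage, U.2.fromSpec_primeIdealOf]
      exact hx
    exact this
  haveI := (flat_subschemeι_iff I).1 hI U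
  obtain ⟨b, hb, hab⟩ := Ideal.exists_eq_mul_of_pure ha
  have hu : IsUnit ((X.presheaf.germ U.1 x hxU).hom (1 - b)) :=
    IsLocalization.map_units (X.presheaf.stalk x) (⟨1 - b, fun h => p.isPrime.ne_top
      ((Ideal.eq_top_iff_one _).2 (by simpa using add_mem h (hle hb)))⟩ : p.asIdeal.primeCompl)
  rw [← hu.mul_left_eq_zero, ← map_mul, mul_sub, mul_one, ← hab, sub_self, map_zero]

theorem stableUnderGeneralization_support (I : X.IdealSheafData) (hI : Flat I.subschemeι) :
    StableUnderGeneralization (I.support : Set X) := by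
  haveI := hI
  rw [← I.range_subschemeι]
  exact (Flat.generalizingMap I.subschemeι).stableUnderGeneralization_range

theorem eq_of_support_eq {I J : X.IdealSheafData} (hI : Flat I.subschemeι) (hJ : Flat J.subschemeι)
    (h : I.support = J.support) : I = J := by
  ext U : 2
  haveI := (flat_subschemeι_iff I).1 hI U
  haveI := (flat_subschemeι_iff J).1 hJ U
  rw [← Ideal.zeroLocus_inj_of_pure, zeroLocus_ideal, zeroLocus_ideal, h]

theorem exists_lift (I : X.IdealSheafData) (hI : Flat I.subschemeι) {Y : Scheme.{u}} (g : Y ⟶ X)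
    (hg : Set.range g ⊆ (I.support : Set X)) : ∃ g', g' ≫ I.subschemeι = g := by
  have hle : I.subschemeι.ker ≤ g.ker := by
    rw [I.ker_subschemeι]
    refine Scheme.IdealSheafData.le_ofIdeals_iff.2 fun U a ha => ?_
    rw [RingHom.mem_ker]
    refine TopCat.Presheaf.section_ext Y.sheaf _ _ _ fun y hy => ?_
    show (Y.presheaf.germ (g ⁻¹ᵁ U.1) y hy).hom ((g.app U.1).hom a) =
      (Y.presheaf.germ (g ⁻¹ᵁ U.1) y hy).hom 0
    rw [map_zero, ← CommRingCat.comp_apply, ← Scheme.Hom.germ_stalkMap, CommRingCat.comp_apply,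
      germ_eq_zero I hI U hy (hg ⟨y, rfl⟩) ha, map_zero]
  exact ⟨IsClosedImmersion.lift _ g hle, IsClosedImmersion.lift_fac _ g hle⟩

/-- The flat closed subscheme on a closed subset stable under generalization. -/
theorem exists_flat_of_stable (Z : Closeds X) (hZ : StableUnderGeneralization (Z : Set X)) :
    ∃ I : X.IdealSheafData, Flat I.subschemeι ∧ I.support = Z := by
  let T : ∀ U : X.affineOpens, Set (PrimeSpectrum Γ(X, U.1)) := fun U => U.2.fromSpec ⁻¹' (Z : Set X)
  have hc : ∀ U, IsClosed (T U) := fun U => Z.isClosed.preimage U.2.fromSpec.continuous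
  have hg : ∀ U, StableUnderGeneralization (T U) := fun U a b hba ha =>
    hZ (hba.map U.2.fromSpec.continuous) ha
  let J : ∀ U : X.affineOpens, Ideal Γ(X, U.1) := fun U => pureIdeal (T U)
  have hmem : ∀ (U : X.affineOpens) (a : Γ(X, U.1)), a ∈ J U ↔
      ∀ (x : X) (hx : x ∈ U.1), x ∈ Z → (X.presheaf.germ U.1 x hx).hom a = 0 := by
    intro U a
    have key : ∀ (x : X) (hx : x ∈ U.1), ((X.presheaf.germ U.1 x hx).hom a = 0 ↔
        ∃ s ∉ (U.2.primeIdealOf ⟨x, hx⟩).asIdeal, s * a = 0) := fun x hx => by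
      letI := X.presheaf.algebra_section_stalk (⟨x, hx⟩ : U.1)
      have := U.2.isLocalization_stalk ⟨x, hx⟩
      exact (IsLocalization.map_eq_zero_iff (U.2.primeIdealOf ⟨x, hx⟩).asIdeal.primeCompl
        (X.presheaf.stalk x) a).trans ⟨fun ⟨s, hs⟩ => ⟨s.1, s.2, hs⟩, fun ⟨s, h1, h2⟩ => ⟨⟨s, h1⟩, h2⟩⟩
    constructor
    · intro h x hx hxZ
      refine (key x hx).2 (h _ ?_)
      show U.2.fromSpec (U.2.primeIdealOf ⟨x, hx⟩) ∈ Z
      rwa [U.2.fromSpec_primeIdealOf]
    · intro h q hq
      have hx : U.2.fromSpec q ∈ U.1 := U.2.range_fromSpec.subset ⟨q, rfl⟩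
      have heq : U.2.primeIdealOf ⟨_, hx⟩ = q :=
        U.2.fromSpec.isOpenEmbedding.injective (U.2.fromSpec_primeIdealOf ⟨_, hx⟩)
      have := (key _ hx).1 (h _ hx hq)
      rwa [heq] at this
  have hmap : ∀ (U : X.affineOpens) (f : Γ(X, U.1)),
      (J U).map (X.presheaf.map (homOfLE <| X.basicOpen_le f).op).hom = J (X.affineBasicOpen f) := by
    intro U f
    apply le_antisymm
    · rw [Ideal.map_le_iff_le_comap]
      intro a ha
      rw [Ideal.mem_comap, hmem]
      intro x hx hxZ
      exact (X.presheaf.germ_res_apply (homOfLE (X.basicOpen_le f)) x hx a).trans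
        ((hmem U a).1 ha x _ hxZ)
    · intro b hb
      letI : Algebra Γ(X, U.1) Γ(X, X.basicOpen f) :=
        (X.presheaf.map (homOfLE <| X.basicOpen_le f).op).hom.toAlgebra
      haveI : IsLocalization.Away f Γ(X, X.basicOpen f) := U.2.isLocalization_basicOpen f
      obtain ⟨a, ⟨_, n, rfl⟩, hab⟩ := IsLocalization.exists_mk'_eq (.powers f) (b : Γ(X, X.basicOpen f))
      have hb' : b * algebraMap Γ(X, U.1) Γ(X, X.basicOpen f) (f ^ n) =
          algebraMap Γ(X, U.1) Γ(X, X.basicOpen f) a := by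
        rw [← hab]; exact IsLocalization.mk'_spec _ a _
      obtain ⟨m, hm⟩ := exists_pow_mul_mem (hc U) (hg U) (f := f) (a := a) fun q hq hfq => by
        have hxU : U.2.fromSpec q ∈ U.1 := U.2.range_fromSpec.subset ⟨q, rfl⟩
        have hx : U.2.fromSpec q ∈ X.basicOpen f := by
          have : q ∈ U.2.fromSpec ⁻¹ᵁ X.basicOpen f := by
            rw [U.2.fromSpec_preimage_basicOpen]; exact hfq
          exact this
        letI := X.presheaf.algebra_section_stalk (⟨_, hxU⟩ : U.1)
        have := U.2.isLocalization_stalk ⟨_, hxU⟩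
        have h0 : (X.presheaf.germ U.1 _ hxU).hom a = 0 := by
          rw [← X.presheaf.germ_res_apply (homOfLE (X.basicOpen_le f)) _ hx a,
            show (X.presheaf.map (homOfLE (X.basicOpen_le f)).op).hom a = _ from hb'.symm, map_mul,
            (show (X.presheaf.germ (X.basicOpen f) _ hx).hom b = 0 from
              (hmem (X.affineBasicOpen f) b).1 hb _ hx hq), zero_mul]
        obtain ⟨⟨s, hs⟩, hsa⟩ := (IsLocalization.map_eq_zero_iff
          (U.2.primeIdealOf ⟨_, hxU⟩).asIdeal.primeCompl (X.presheaf.stalk (U.2.fromSpec q)) a).1 h0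
        have heq : U.2.primeIdealOf ⟨_, hxU⟩ = q :=
          U.2.fromSpec.isOpenEmbedding.injective (U.2.fromSpec_primeIdealOf ⟨_, hxU⟩)
        exact ⟨s, heq ▸ hs, hsa⟩
      have h1 : IsUnit (algebraMap Γ(X, U.1) Γ(X, X.basicOpen f) (f ^ (m + n))) := by
        rw [map_pow]
        exact (IsLocalization.Away.algebraMap_isUnit f).pow _
      have h2 : b * algebraMap Γ(X, U.1) Γ(X, X.basicOpen f) (f ^ (m + n)) ∈
          (J U).map (algebraMap Γ(X, U.1) Γ(X, X.basicOpen f)) := by
        rw [pow_add, map_mul, mul_left_comm, hb', ← map_mul]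
        exact Ideal.mem_map_of_mem _ hm
      exact (Ideal.mul_unit_mem_iff_mem _ h1).1 h2
  let I : X.IdealSheafData := Scheme.IdealSheafData.mkOfMemSupportIff J hmap (Z : Set X)
    fun U x hx => by
      have := U.2.fromSpec_primeIdealOf ⟨x, hx⟩
      rw [show x ∈ (Z : Set X) ↔ U.2.primeIdealOf ⟨x, hx⟩ ∈ PrimeSpectrum.zeroLocus (J U : Set Γ(X, U.1)) by
        rw [zeroLocus_pureIdeal (hc U) (hg U), Set.mem_preimage, this],
        ← U.2.fromSpec_preimage_zeroLocus, Set.mem_preimage, this]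
  exact ⟨I, (flat_subschemeι_iff I).2 fun U => pure_pureIdeal (hc U) (hg U), Closeds.ext rfl⟩

end Groth.Agent.FlatModB
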