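import Groth.Agent.FlatModB.RankOpen
import Groth.Agent.FlatModB.FlatClosed
import Groth.Agent.FlatModB.Basic
import Groth.Agent.QC.Localisation
import Groth.Agent.QC.FiniteType

/-! # when finite type flat quasi-coherent modules are finite locally free -/

set_option autoImplicit false
set_option backward.isDefEq.respectTransparency false

universe u

open CategoryTheory CategoryTheory.Limits AlgebraicGeometry TopologicalSpace Opposite Groth.Agent.QC

namespace Groth.Agent.FlatModB

variable {X : Scheme.{u}} {F : X.Modules}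

theorem isFlat_of_flat_sections (hF : Coh.IsQCoh F)
    (h : ∀ U : X.affineOpens, Module.Flat Γ(X, U.1) Γ(F, U.1)) : FlatMod.IsFlat F := by
  intro x
  obtain ⟨U, hU, hx, -⟩ := exists_isAffineOpen_mem_and_subset (X := X) (x := x) (U := ⊤) trivial
  haveI := h ⟨U, hU⟩
  letI := Module.compHom (F.presheaf.stalk x) (X.presheaf.germ U x hx).hom
  obtain ⟨g, hg⟩ := LocFree.exists_stalkMap hU hF hx
  letI := (X.presheaf.germ U x hx).hom.toAlgebra
  haveI := hU.isLocalization_stalk ⟨x, hx⟩
  haveI : IsScalarTower Γ(X, U) (X.presheaf.stalk x) (F.presheaf.stalk x) :=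
    ⟨fun a c m => mul_smul ((X.presheaf.germ U x hx).hom a) c m⟩
  haveI := hg
  exact (Module.flat_iff_of_isLocalization (X.presheaf.stalk x)
    (hU.primeIdealOf ⟨x, hx⟩).asIdeal.primeCompl _).2
      (InjFibre.flat_localized (R := Γ(X, U)) (hU.primeIdealOf ⟨x, hx⟩).asIdeal.primeCompl g)

theorem finrank_stalk_eq (hF : Coh.IsQCoh F) {U : X.Opens} (hU : IsAffineOpen U) {x : X}
    (hx : x ∈ U) :
    Module.finrank (X.presheaf.stalk x) (F.presheaf.stalk x) =
      Module.rankAtStalk Γ(F, U) (hU.primeIdealOf ⟨x, hx⟩) := by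
  let p := (hU.primeIdealOf ⟨x, hx⟩).asIdeal
  letI := Module.compHom (F.presheaf.stalk x) (X.presheaf.germ U x hx).hom
  obtain ⟨g, hg⟩ := LocFree.exists_stalkMap hU hF hx
  haveI : IsLocalizedModule p.primeCompl g := hg
  letI := (X.presheaf.germ U x hx).hom.toAlgebra
  haveI : IsLocalization p.primeCompl (X.presheaf.stalk x) := hU.isLocalization_stalk ⟨x, hx⟩
  let i := IsLocalization.algEquiv p.primeCompl (Localization.AtPrime p) (X.presheaf.stalk x)
  letI : Module (Localization.AtPrime p) (F.presheaf.stalk x) :=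
    Module.compHom _ i.toRingEquiv.toRingHom
  haveI : IsScalarTower Γ(X, U) (Localization.AtPrime p) (F.presheaf.stalk x) :=
    IsScalarTower.of_algebraMap_smul fun a m => by
      change i (algebraMap _ _ a) • m = (X.presheaf.germ U x hx).hom a • m
      rw [i.commutes]
      rfl
  let e : LocalizedModule p.primeCompl Γ(F, U) ≃ₗ[Localization.AtPrime p] F.presheaf.stalk x :=
    (IsLocalizedModule.iso p.primeCompl g).extendScalarsOfIsLocalization p.primeCompl _
  have h1 : Module.rank (Localization.AtPrime p) (F.presheaf.stalk x) =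
      Module.rank (X.presheaf.stalk x) (F.presheaf.stalk x) :=
    rank_eq_of_equiv_equiv i (AddEquiv.refl _) i.bijective fun _ _ => rfl
  have h2 : Module.finrank (Localization.AtPrime p) (LocalizedModule p.primeCompl Γ(F, U)) =
      Module.finrank (Localization.AtPrime p) (F.presheaf.stalk x) := e.finrank_eq
  exact (congrArg Cardinal.toNat h1).symm.trans h2.symm

/-- If closed subsets stable under generalization are open, finite type flat modules are locally free. -/
theorem isFinLocFree_of_forall_isOpen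
    (h : ∀ Z : Set X, IsClosed Z → StableUnderGeneralization Z → IsOpen Z)
    (hF : Coh.IsQCoh F) (hft : CohB1.IsFT F) (hflat : FlatMod.IsFlat F) :
    FlatMod.IsFinLocFree F := by
  let Z : ℕ → Set X := fun n =>
    {x : X | n ≤ Module.finrank (X.presheaf.stalk x) (F.presheaf.stalk x)}
  have hpre : ∀ (n : ℕ) (U : X.Opens) (hU : IsAffineOpen U),
      hU.fromSpec ⁻¹' Z n = {q | n ≤ Module.rankAtStalk Γ(F, U) q} := by
    intro n U hU
    ext q
    have hx : hU.fromSpec q ∈ U := hU.range_fromSpec.subset ⟨q, rfl⟩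
    have heq : hU.primeIdealOf ⟨_, hx⟩ = q :=
      hU.fromSpec.isOpenEmbedding.injective (hU.fromSpec_primeIdealOf ⟨_, hx⟩)
    simp only [Z, Set.mem_preimage, Set.mem_setOf_eq, finrank_stalk_eq hF hU hx, heq]
    rfl
  have hopen : ∀ n, IsOpen (Z n) := by
    intro n
    refine h _ ?_ ?_
    · rw [← isOpen_compl_iff, isOpen_iff_forall_mem_open]
      intro x hx
      obtain ⟨U, hU, hxU, -⟩ := exists_isAffineOpen_mem_and_subset (X := X) (x := x) (U := ⊤) trivial
      haveI := finite_sections hU hft (hM := hF)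
      haveI := LocFree.flat_sections hU hF hflat
      refine ⟨hU.fromSpec '' (hU.fromSpec ⁻¹' (Z n)ᶜ), Set.image_preimage_subset _ _, ?_, ?_⟩
      · refine hU.fromSpec.isOpenEmbedding.isOpenMap _ ?_
        rw [Set.preimage_compl, hpre]
        exact (isClosed_rank_ge n).isOpen_compl
      · refine ⟨hU.primeIdealOf ⟨x, hxU⟩, ?_, hU.fromSpec_primeIdealOf ⟨x, hxU⟩⟩
        rw [Set.mem_preimage, hU.fromSpec_primeIdealOf]
        exact hx
    · intro x y hyx hx
      obtain ⟨U, hU, hxU, -⟩ := exists_isAffineOpen_mem_and_subset (X := X) (x := x) (U := ⊤) trivial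
      have hyU : y ∈ U := hyx.mem_open U.2 hxU
      haveI := finite_sections hU hft (hM := hF)
      haveI := LocFree.flat_sections hU hF hflat
      have hle : hU.primeIdealOf ⟨y, hyU⟩ ≤ hU.primeIdealOf ⟨x, hxU⟩ := by
        rw [PrimeSpectrum.le_iff_specializes]
        exact (Topology.IsInducing.subtypeVal.specializes_iff.mp hyx :
          (⟨y, hyU⟩ : U) ⤳ ⟨x, hxU⟩).map hU.isoSpec.hom.continuous
      simp only [Z, Set.mem_setOf_eq, finrank_stalk_eq hF hU hyU, finrank_stalk_eq hF hU hxU] at hx ⊢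
      rwa [Module.rankAtStalk_eq_of_le_of_finite_of_flat Γ(F, U) hle]
  refine LocFree.isFinLocFree_of_affine_projective hF fun x => ?_
  obtain ⟨U, hU, hx, -⟩ := exists_isAffineOpen_mem_and_subset (X := X) (x := x) (U := ⊤) trivial
  haveI := finite_sections hU hft (hM := hF)
  haveI := LocFree.flat_sections hU hF hflat
  exact ⟨U, hU, hx, finitePresentation_of_rank_open fun n =>
    hpre n U hU ▸ (hopen n).preimage hU.fromSpec.continuous, inferInstance⟩

theorem isOpen_of_forall_isFinLocFree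
    (h : ∀ F : X.Modules, Coh.IsQCoh F → CohB1.IsFT F → FlatMod.IsFlat F → FlatMod.IsFinLocFree F)
    (Z : Set X) (hZ : IsClosed Z) (hgen : StableUnderGeneralization Z) : IsOpen Z := by
  obtain ⟨I, hI, hIZ⟩ := exists_flat_of_stable ⟨Z, hZ⟩ hgen
  let F := (Scheme.Modules.pushforward I.subschemeι).obj (Coh.structureModule I.subscheme)
  have hu : Coh.IsQCoh (Coh.structureModule I.subscheme) := isQCoh_unit _
  have hF : Coh.IsCoh F := isCoh_pushforward_of_isFinite (hM := hu) I.subschemeι
    ((isFT_iff_finite_sections (hM := hu)).2 fun V => Module.Finite.self _)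
  have hsec : ∀ U : X.affineOpens,
      Nonempty ((Γ(X, U.1) ⧸ I.ideal U) ≃ₗ[Γ(X, U.1)] Γ(F, U.1)) := by
    intro U
    let φ : Γ(X, U.1) →ₗ[Γ(X, U.1)] Γ(F, U.1) :=
      { toFun := fun a => ((I.subschemeι.app U.1).hom a :)
        map_add' := map_add (I.subschemeι.app U.1).hom
        map_smul' := fun c a => map_mul (I.subschemeι.app U.1).hom c a }
    have hk : LinearMap.ker φ = I.ideal U := by
      ext a
      rw [← I.ker_subschemeι_app U]
      rfl
    exact ⟨(Submodule.quotEquivOfEq _ _ hk.symm).trans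
      (φ.quotKerEquivOfSurjective (I.subschemeι_app_surjective U))⟩
  have hfree := h F hF.1 hF.2 <| isFlat_of_flat_sections hF.1 fun U => by
    obtain ⟨e⟩ := hsec U
    haveI := (flat_subschemeι_iff I).1 hI U
    exact Module.Flat.of_linearEquiv e.symm
  rw [isOpen_iff_forall_mem_open]
  intro x hx
  obtain ⟨U, hU, hxU, -⟩ := exists_isAffineOpen_mem_and_subset (X := X) (x := x) (U := ⊤) trivial
  obtain ⟨e⟩ := hsec ⟨U, hU⟩
  haveI := LocFree.finitePresentation_sections hfree hU
  haveI : Module.FinitePresentation Γ(X, U) (Γ(X, U) ⧸ I.ideal ⟨U, hU⟩) :=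
    Module.FinitePresentation.of_equiv e.symm
  haveI := (flat_subschemeι_iff I).1 hI ⟨U, hU⟩
  have hfg : (I.ideal ⟨U, hU⟩).FG := by
    rw [← (I.ideal ⟨U, hU⟩).ker_mkQ]
    exact Module.FinitePresentation.fg_ker _ (I.ideal ⟨U, hU⟩).mkQ_surjective
  obtain ⟨e', he', hIe⟩ := (Ideal.isIdempotentElem_iff_of_fg _ hfg).mp
    (I.ideal ⟨U, hU⟩).isIdempotentElem_of_pure
  have hop : IsOpen (PrimeSpectrum.zeroLocus (I.ideal ⟨U, hU⟩ : Set Γ(X, U))) := by
    rw [hIe, show (Γ(X, U) ∙ e' : Ideal Γ(X, U)) = Ideal.span {e'} from rfl, PrimeSpectrum.zeroLocus_span,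
      PrimeSpectrum.zeroLocus_eq_basicOpen_of_isIdempotentElem _ he']
    exact (PrimeSpectrum.basicOpen _).2
  refine ⟨hU.fromSpec '' PrimeSpectrum.zeroLocus (I.ideal ⟨U, hU⟩ : Set Γ(X, U)), ?_,
    hU.fromSpec.isOpenEmbedding.isOpenMap _ hop, hU.primeIdealOf ⟨x, hxU⟩, ?_,
    hU.fromSpec_primeIdealOf ⟨x, hxU⟩⟩
  · rw [zeroLocus_ideal, hIZ]
    exact Set.image_preimage_subset _ _
  · rw [zeroLocus_ideal, hIZ, Set.mem_preimage, hU.fromSpec_primeIdealOf]
    exact hx

end Groth.Agent.FlatModB
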