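import Mathlib

/-! # flatness over a base and faithfully flat extension of the intermediate ring -/

universe u

open TensorProduct

namespace Groth.Agent.FlatModB

theorem flat_tensor_iff_of_faithfullyFlat (R B C : Type u) [CommRing R] [CommRing B] [CommRing C]
    [Algebra R B] [Algebra B C] [Algebra R C] [IsScalarTower R B C] [Module.FaithfullyFlat B C]
    (M : Type u) [AddCommGroup M] [Module R M] [Module B M] [IsScalarTower R B M] :
    Module.Flat R (C ⊗[B] M) ↔ Module.Flat R M := by
  simp only [Module.Flat.iff_lTensor_preserves_injective_linearMap]
  have key : ∀ {N N' : Type u} [AddCommGroup N] [AddCommGroup N'] [Module R N] [Module R N']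
      (g : N →ₗ[R] N'), Function.Injective (g.lTensor (C ⊗[B] M)) ↔
        Function.Injective (g.lTensor M) := by
    intro N N' _ _ _ _ g
    let eN := AlgebraTensorModule.assoc R B B C M N
    let eN' := AlgebraTensorModule.assoc R B B C M N'
    have h : ∀ z, eN' (g.lTensor (C ⊗[B] M) z) =
        (AlgebraTensorModule.lTensor B M g).lTensor C (eN z) := by
      intro z
      induction z using TensorProduct.induction_on with
      | zero => simp
      | tmul z n =>
        induction z using TensorProduct.induction_on with
        | zero => simp
        | tmul c m => simp [eN, eN']
        | add a b ha hb => simp only [add_tmul, map_add, ha, hb]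
      | add a b ha hb => simp [map_add, ha, hb]
    calc Function.Injective (g.lTensor (C ⊗[B] M))
        ↔ Function.Injective ((AlgebraTensorModule.lTensor B M g).lTensor C) := by
          constructor
          · intro hi a b hab
            obtain ⟨a, rfl⟩ := eN.surjective a
            obtain ⟨b, rfl⟩ := eN.surjective b
            rw [← h, ← h] at hab
            rw [hi (eN'.injective hab)]
          · intro hi a b hab
            apply eN.injective
            apply hi
            rw [← h, ← h, hab]
      _ ↔ Function.Injective (AlgebraTensorModule.lTensor B M g) :=
          Module.FaithfullyFlat.lTensor_injective_iff_injective B C _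
      _ ↔ _ := Iff.rfl
  exact ⟨fun hC N N' _ _ _ _ g hg => (key g).1 (hC g hg),
    fun hM N N' _ _ _ _ g hg => (key g).2 (hM g hg)⟩

end Groth.Agent.FlatModB

namespace Groth.Agent.FlatModB

open TensorProduct

/-- A faithfully flat module which is flat over `R` forces the algebra to be flat over `R`. -/
theorem flat_of_faithfullyFlat_module (R B : Type u) [CommRing R] [CommRing B] [Algebra R B]
    (M : Type u) [AddCommGroup M] [Module R M] [Module B M] [IsScalarTower R B M]
    [Module.FaithfullyFlat B M] [Module.Flat R M] : Module.Flat R B := by
  rw [Module.Flat.iff_lTensor_preserves_injective_linearMap]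
  intro N N' _ _ _ _ g hg
  have h1 : Function.Injective (g.lTensor M) :=
    Module.Flat.lTensor_preserves_injective_linearMap g hg
  let eN := AlgebraTensorModule.cancelBaseChange R B B M N
  let eN' := AlgebraTensorModule.cancelBaseChange R B B M N'
  have h : ∀ z, eN' ((g.baseChange B).lTensor M z) = g.lTensor M (eN z) := by
    intro z
    induction z using TensorProduct.induction_on with
    | zero => simp
    | tmul m w =>
      induction w using TensorProduct.induction_on with
      | zero => simp
      | tmul b n => simp [eN, eN']
      | add a b ha hb => simp only [tmul_add, map_add, ha, hb]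
    | add a b ha hb => simp only [map_add, ha, hb]
  have h2 : Function.Injective ((g.baseChange B).lTensor M) := fun a b hab =>
    eN.injective (h1 (by rw [← h, ← h, hab]))
  exact (Module.FaithfullyFlat.lTensor_injective_iff_injective B M (g.baseChange B)).1 h2

/-- Over a local ring: flat and not killed by the maximal ideal is faithfully flat. -/
theorem faithfullyFlat_of_local (B : Type u) [CommRing B] [IsLocalRing B]
    (M : Type u) [AddCommGroup M] [Module B M] [Module.Flat B M]
    (h : IsLocalRing.maximalIdeal B • (⊤ : Submodule B M) ≠ ⊤) : Module.FaithfullyFlat B M :=
  ⟨fun m hm => by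
    obtain rfl := IsLocalRing.eq_maximalIdeal hm
    exact h⟩

end Groth.Agent.FlatModB
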