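import Groth.Agent.FlatModB.Basic
import Groth.Agent.QC.Coherent
import Groth.Agent.FpqcDescent.Immersion
import Groth.Prelude.Def_FDesc
import Mathlib

/-!
# Quasi-flat morphisms: generalizations lift, closures pull back
-/

set_option autoImplicit false
set_option backward.isDefEq.respectTransparency false

universe u

open CategoryTheory CategoryTheory.Limits AlgebraicGeometry TopologicalSpace Opposite TensorProduct

namespace Groth.Agent.FlatModB

/-- A nonzero finite module over a local ring, flat over `A`, gives every generalisation a lift. -/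
theorem exists_prime_le_of_flat {A B : Type u} [CommRing A] [CommRing B] [Algebra A B]
    (M : Type u) [AddCommGroup M] [Module B M] [Module A M] [IsScalarTower A B M]
    [Module.Finite B M] [Module.Flat A M] (P : PrimeSpectrum B) (hP : P ∈ Module.support B M)
    (q : PrimeSpectrum A) (hq : q.asIdeal ≤ P.asIdeal.comap (algebraMap A B)) :
    ∃ Q : PrimeSpectrum B, Q.asIdeal ≤ P.asIdeal ∧ PrimeSpectrum.comap (algebraMap A B) Q = q := by
  let L := Localization.AtPrime P.asIdeal
  let N := LocalizedModule P.asIdeal.primeCompl M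
  haveI : Nontrivial N := Module.mem_support_iff.mp hP
  haveI : Module.Finite L N := Module.Finite.of_isLocalizedModule P.asIdeal.primeCompl
    (LocalizedModule.mkLinearMap P.asIdeal.primeCompl M)
  haveI : Module.Flat A N := InjFibre.flat_localized P.asIdeal.primeCompl
    (LocalizedModule.mkLinearMap P.asIdeal.primeCompl M)
  haveI : IsScalarTower A L N := IsScalarTower.of_algebraMap_smul fun a n => by
    rw [IsScalarTower.algebraMap_apply A B L, algebraMap_smul, algebraMap_smul]
  have hJ : (q.asIdeal.map (algebraMap A L)).comap (algebraMap A L) ≤ q.asIdeal := by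
    intro a ha
    by_contra haq
    have hle : q.asIdeal.map (algebraMap A L) ≤ IsLocalRing.maximalIdeal L := by
      rw [Ideal.map_le_iff_le_comap]
      intro x hx
      rw [Ideal.mem_comap, IsScalarTower.algebraMap_apply A B L,
        IsLocalization.AtPrime.to_map_mem_maximal_iff L P.asIdeal]
      exact hq hx
    set W : Submodule A N := q.asIdeal • (⊤ : Submodule A N) with hW
    have hinj : ∀ z : N, a • z ∈ W → z ∈ W := by
      intro z hz
      have hreg : IsSMulRegular (A ⧸ q.asIdeal) a := by
        intro x y hxy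
        obtain ⟨x, rfl⟩ := Ideal.Quotient.mk_surjective x
        obtain ⟨y, rfl⟩ := Ideal.Quotient.mk_surjective y
        simp only [Algebra.smul_def, Ideal.Quotient.algebraMap_eq, ← map_mul,
          Ideal.Quotient.eq, ← mul_sub] at hxy
        rw [Ideal.Quotient.eq]
        exact (q.isPrime.mem_or_mem hxy).resolve_left haq
      have h1 : Function.Injective (LinearMap.lTensor N
          (LinearMap.lsmul A (A ⧸ q.asIdeal) a)) :=
        Module.Flat.lTensor_preserves_injective_linearMap _ hreg
      let e := TensorProduct.tensorQuotEquivQuotSMul N q.asIdeal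
      have h2 : a • (z ⊗ₜ[A] (1 : A ⧸ q.asIdeal)) = 0 := by
        apply e.injective
        rw [map_smul, map_zero, show (1 : A ⧸ q.asIdeal) = Ideal.Quotient.mk q.asIdeal 1 from rfl,
          TensorProduct.tensorQuotEquivQuotSMul_tmul_mk, one_smul,
          ← Submodule.Quotient.mk_smul, Submodule.Quotient.mk_eq_zero]
        exact hz
      have h3 : LinearMap.lTensor N (LinearMap.lsmul A (A ⧸ q.asIdeal) a) (z ⊗ₜ[A] 1) = 0 := by
        rw [LinearMap.lTensor_tmul, LinearMap.lsmul_apply, TensorProduct.tmul_smul]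
        exact h2
      have h4 := h1 (h3.trans (map_zero _).symm)
      have h5 := congrArg e h4
      rw [map_zero, show (1 : A ⧸ q.asIdeal) = Ideal.Quotient.mk q.asIdeal 1 from rfl,
        TensorProduct.tensorQuotEquivQuotSMul_tmul_mk, one_smul,
        Submodule.Quotient.mk_eq_zero] at h5
      exact h5
    have hJW : ∀ j ∈ q.asIdeal.map (algebraMap A L), ∀ z : N, j • z ∈ W := by
      intro j hj
      induction hj using Submodule.span_induction with
      | mem x hx =>
        obtain ⟨a, ha, rfl⟩ := hx
        intro z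
        rw [algebraMap_smul]
        exact Submodule.smul_mem_smul ha trivial
      | zero => intro z; rw [zero_smul]; exact W.zero_mem
      | add x y _ _ hx hy => intro z; rw [add_smul]; exact W.add_mem (hx z) (hy z)
      | smul c x _ hx =>
        intro z
        rw [smul_eq_mul, mul_comm, mul_smul]
        exact hx (c • z)
    have htop : W = ⊤ := eq_top_iff.mpr fun z _ => hinj z <| by
      rw [← algebraMap_smul L a z]
      exact hJW _ ha z
    have hsmul : (⊤ : Submodule L N) ≤ IsLocalRing.maximalIdeal L • (⊤ : Submodule L N) := by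
      intro z _
      have hz : z ∈ W := htop ▸ trivial
      refine Submodule.smul_induction_on hz (fun x hx n _ => ?_) fun x y hx hy => add_mem hx hy
      rw [← algebraMap_smul L x n]
      exact Submodule.smul_mem_smul (hle (Ideal.mem_map_of_mem _ hx)) trivial
    have h0 := Submodule.eq_bot_of_le_smul_of_le_jacobson_bot (IsLocalRing.maximalIdeal L)
      (⊤ : Submodule L N) Module.Finite.fg_top hsmul
      (by rw [IsLocalRing.jacobson_eq_maximalIdeal ⊥ bot_ne_top])
    exact not_subsingleton N (Submodule.subsingleton_iff L |>.mp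
      (subsingleton_of_bot_eq_top h0.symm))
  obtain ⟨Q, hQ⟩ := (PrimeSpectrum.mem_range_comap_iff (algebraMap A L)).mpr
    (le_antisymm hJ Ideal.le_comap_map)
  refine ⟨PrimeSpectrum.comap (algebraMap B L) Q, ?_, ?_⟩
  · intro x hx
    exact (IsLocalization.AtPrime.to_map_mem_maximal_iff L P.asIdeal x).mp
      (IsLocalRing.le_maximalIdeal Q.isPrime.ne_top hx)
  · rw [← PrimeSpectrum.comap_comp_apply, ← IsScalarTower.algebraMap_eq, hQ]

variable {X Y : Scheme.{u}} (f : X ⟶ Y)

/-- Quasi-flat morphisms lift generalizations. -/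
theorem generalizingMap (hf : FDesc.IsQuasiFlat f) : GeneralizingMap f.base := by
  obtain ⟨M, hM, hflat, hsupp⟩ := hf
  intro x y hy
  obtain ⟨V, hV, hxV, -⟩ := exists_isAffineOpen_mem_and_subset (X := Y) (x := f x) (U := ⊤) trivial
  obtain ⟨U, hU, hxU, hUV⟩ := exists_isAffineOpen_mem_and_subset (X := X) (x := x) (U := f ⁻¹ᵁ V) hxV
  have hyV : y ∈ V := hy.mem_open V.2 hxV
  letI : Algebra Γ(Y, V) Γ(X, U) := (f.appLE V U hUV).hom.toAlgebra
  letI := secModule f M U V hUV
  haveI : IsScalarTower Γ(Y, V) Γ(X, U) Γ(M, U) :=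
    ⟨fun a c m => mul_smul ((f.appLE V U hUV).hom a) c m⟩
  haveI : Module.Flat Γ(Y, V) Γ(M, U) :=
    (flat_sections_iff f M hM.1 hU hV hUV).2 fun z _ => hflat z
  haveI : Module.Finite Γ(X, U) Γ(M, U) := (QC.isCoh_iff_finite_sections.mp hM).2 ⟨U, hU⟩
  let P := hU.primeIdealOf ⟨x, hxU⟩
  have hP : P ∈ Module.support Γ(X, U) Γ(M, U) := by
    letI := Module.compHom (M.presheaf.stalk x) (X.presheaf.germ U x hxU).hom
    obtain ⟨g, hg⟩ := LocFree.exists_stalkMap hU hM.1 hxU
    haveI := hg
    haveI := hsupp x
    exact Module.mem_support_iff.mpr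
      (IsLocalizedModule.iso P.asIdeal.primeCompl g).toEquiv.nontrivial
  let q := hV.primeIdealOf ⟨y, hyV⟩
  have hcomap : PrimeSpectrum.comap (f.appLE V U hUV).hom P = hV.primeIdealOf ⟨f x, hxV⟩ :=
    IsAffineOpen.comap_primeIdealOf_appLE (f := f) V hV U hU hUV hxU
  have hq : q.asIdeal ≤ P.asIdeal.comap (algebraMap Γ(Y, V) Γ(X, U)) := by
    have h1 : (⟨y, hyV⟩ : V) ⤳ ⟨f x, hxV⟩ := Topology.IsInducing.subtypeVal.specializes_iff.mp hy
    have h2 := (PrimeSpectrum.le_iff_specializes _ _).mpr
      (h1.map hV.isoSpec.hom.continuous)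
    change q.asIdeal ≤ (PrimeSpectrum.comap (f.appLE V U hUV).hom P).asIdeal
    rw [hcomap]
    exact h2
  obtain ⟨Q, hQP, hQ⟩ := exists_prime_le_of_flat Γ(M, U) P hP q hq
  refine ⟨hU.fromSpec Q, ?_, ?_⟩
  · have := ((PrimeSpectrum.le_iff_specializes Q P).mp hQP).map hU.fromSpec.continuous
    rwa [hU.fromSpec_primeIdealOf ⟨x, hxU⟩] at this
  · have h3 : Spec.map (f.appLE V U hUV) Q = q := hQ
    rw [← Scheme.Hom.comp_apply, ← hV.SpecMap_appLE_fromSpec f hU hUV, Scheme.Hom.comp_apply, h3]
    exact hV.fromSpec_primeIdealOf ⟨y, hyV⟩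

/-- The closure of a quasi-compact image pulls back to the closure of the preimage along a map
that lifts generalizations. -/
theorem preimage_closure_range {Y' : Scheme.{u}} (hf : GeneralizingMap f.base) (g : Y' ⟶ Y)
    [QuasiCompact g] :
    f.base ⁻¹' closure (Set.range g.base) = closure (f.base ⁻¹' Set.range g.base) := by
  refine subset_antisymm (fun x hx => ?_) (f.continuous.closure_preimage_subset _)
  obtain ⟨z, hz⟩ := FpqcDescent.exists_specializes_of_mem_closure g hx
  obtain ⟨x', hx', e⟩ := hf hz
  refine hx'.mem_closed isClosed_closure (subset_closure ?_)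
  exact ⟨z, e.symm⟩

theorem closure_image_subset {F : Set X} (hF : IsClosed F) (hsat : ⇑f ⁻¹' (⇑f '' F) = F)
    [QuasiCompact f] (hf : GeneralizingMap f.base) : ⇑f ⁻¹' closure (⇑f '' F) = F := by
  let I := Scheme.IdealSheafData.vanishingIdeal (X := X) ⟨F, hF⟩
  have hr : Set.range (I.subschemeι ≫ f) = ⇑f '' F := by
    have h1 : Set.range I.subschemeι = F := by
      rw [I.range_subschemeι]
      exact Scheme.IdealSheafData.coe_support_vanishingIdeal ⟨F, hF⟩
    rw [Scheme.Hom.comp_base, TopCat.coe_comp, Set.range_comp, h1]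
  have := preimage_closure_range f hf (I.subschemeι ≫ f)
  change ⇑f ⁻¹' closure (Set.range (I.subschemeι ≫ f)) =
    closure (⇑f ⁻¹' Set.range (I.subschemeι ≫ f)) at this
  rwa [hr, hsat, hF.closure_eq] at this

theorem isQuotientMap [Surjective f] [QuasiCompact f] (hf : GeneralizingMap f.base) :
    Topology.IsQuotientMap f.base := by
  rw [Topology.isQuotientMap_iff_isClosed]
  refine ⟨f.surjective, fun Z => ⟨fun h => h.preimage f.continuous, fun h => ?_⟩⟩
  have himg : ⇑f '' (⇑f ⁻¹' Z) = Z := Set.image_preimage_eq Z f.surjective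
  have h1 := closure_image_subset f h (by rw [himg]) hf
  rw [himg] at h1
  exact closure_eq_iff_isClosed.mp (f.surjective.preimage_injective h1)

end Groth.Agent.FlatModB
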