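import Mathlib

/-! # pure ideals and closed subsets stable under generalization -/

universe u

open PrimeSpectrum

namespace Groth.Agent.FlatModB

variable {A : Type u} [CommRing A] (T : Set (PrimeSpectrum A))

/-- functions vanishing near `T` -/
def pureIdeal : Ideal A where
  carrier := {a | ∀ q ∈ T, ∃ s ∉ q.asIdeal, s * a = 0}
  add_mem' := by
    intro a b ha hb q hq
    obtain ⟨s, hs, hsa⟩ := ha q hq
    obtain ⟨t, ht, htb⟩ := hb q hq
    refine ⟨s * t, fun h => (q.isPrime.mem_or_mem h).elim hs ht, ?_⟩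
    rw [mul_add, mul_right_comm, hsa, zero_mul, zero_add, mul_assoc, htb, mul_zero]
  zero_mem' q _ := ⟨1, fun h => q.isPrime.ne_top ((Ideal.eq_top_iff_one _).mpr h), mul_zero _⟩
  smul_mem' c a ha q hq := by
    obtain ⟨s, hs, hsa⟩ := ha q hq
    exact ⟨s, hs, by rw [smul_eq_mul, mul_left_comm, hsa, mul_zero]⟩

theorem mem_pureIdeal {a : A} : a ∈ pureIdeal T ↔ ∀ q ∈ T, ∃ s ∉ q.asIdeal, s * a = 0 := Iff.rfl

variable {T}

theorem exists_mul_eq_zero (hc : IsClosed T) (hg : StableUnderGeneralization T)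
    {q p : PrimeSpectrum A} (hq : q ∈ T) (hp : p ∉ T) :
    ∃ s ∉ q.asIdeal, ∃ t ∉ p.asIdeal, s * t = 0 := by
  by_contra! h
  let S : Submonoid A := q.asIdeal.primeCompl ⊔ p.asIdeal.primeCompl
  have hS : Disjoint ((⊥ : Ideal A) : Set A) S := by
    rw [Set.disjoint_left]
    intro x hx hxS
    obtain ⟨s, hs, t, ht, rfl⟩ := Submonoid.mem_sup.mp hxS
    exact h s hs t ht (Ideal.mem_bot.mp hx)
  obtain ⟨r, hr, -, hrS⟩ := Ideal.exists_le_prime_disjoint ⊥ S hS
  let r' : PrimeSpectrum A := ⟨r, hr⟩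
  have hrq : r' ⤳ q := (le_iff_specializes _ _).mp fun x hx => by
    by_contra hxq
    exact Set.disjoint_left.mp hrS hx (le_sup_left (α := Submonoid A) hxq)
  have hrp : r' ⤳ p := (le_iff_specializes _ _).mp fun x hx => by
    by_contra hxq
    exact Set.disjoint_left.mp hrS hx (le_sup_right (α := Submonoid A) hxq)
  exact hp (hrp.mem_closed hc (hg hrq hq))

theorem exists_mem_notMem (hc : IsClosed T) (hg : StableUnderGeneralization T)
    {p : PrimeSpectrum A} (hp : p ∉ T) : ∃ t ∈ pureIdeal T, t ∉ p.asIdeal := by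
  classical
  choose s hs t ht hst using fun q : T => exists_mul_eq_zero hc hg q.2 hp
  obtain ⟨F, hF⟩ := hc.isCompact.elim_finite_subcover (fun q : T => ((basicOpen (s q) : TopologicalSpace.Opens (PrimeSpectrum A)) : Set (PrimeSpectrum A)))
    (fun q => (basicOpen (s q)).2) fun q hq => Set.mem_iUnion.mpr ⟨⟨q, hq⟩, hs ⟨q, hq⟩⟩
  refine ⟨∏ q ∈ F, t q, fun q hq => ?_, fun h => ?_⟩
  · obtain ⟨q', hq', hqs⟩ := Set.mem_iUnion₂.mp (hF hq)
    refine ⟨s q', hqs, ?_⟩
    rw [← Finset.mul_prod_erase F t hq', ← mul_assoc, hst, zero_mul]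
  · obtain ⟨q', -, hq'⟩ := (p.isPrime.prod_mem_iff).mp h
    exact ht q' hq'

theorem zeroLocus_pureIdeal (hc : IsClosed T) (hg : StableUnderGeneralization T) :
    zeroLocus (pureIdeal T : Set A) = T := by
  refine subset_antisymm (fun p hp => ?_) fun q hq a ha => ?_
  · by_contra hpT
    obtain ⟨t, ht, htp⟩ := exists_mem_notMem hc hg hpT
    exact htp (hp ht)
  · obtain ⟨s, hs, hsa⟩ := ha q hq
    exact (q.isPrime.mem_or_mem (hsa ▸ q.asIdeal.zero_mem)).resolve_left hs

theorem pure_pureIdeal (hc : IsClosed T) (hg : StableUnderGeneralization T) :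
    (pureIdeal T).Pure := by
  refine Ideal.Pure.of_inf_eq_mul _ fun J _ => le_antisymm ?_ Ideal.mul_le_inf
  rintro a ⟨ha, haJ⟩
  obtain ⟨s, hs, b, hb, hsb⟩ : ∃ s, s * a = 0 ∧ ∃ b ∈ pureIdeal T, s + b = 1 := by
    have htop : Submodule.annihilator (Ideal.span {a} : Ideal A) ⊔ pureIdeal T = ⊤ := by
      by_contra hne
      obtain ⟨m, hm, hle⟩ := Ideal.exists_le_maximal _ hne
      let p : PrimeSpectrum A := ⟨m, hm.isPrime⟩
      by_cases hp : p ∈ T
      · obtain ⟨s, hs, hsa⟩ := ha p hp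
        exact hs (le_sup_left.trans hle
          ((Submodule.mem_annihilator_span_singleton _ _).mpr hsa))
      · obtain ⟨t, ht, htp⟩ := exists_mem_notMem hc hg hp
        exact htp (le_sup_right.trans hle ht)
    obtain ⟨s, hs, b, hb, hsb⟩ := Submodule.mem_sup.mp ((Ideal.eq_top_iff_one _).mp htop)
    exact ⟨s, (Submodule.mem_annihilator_span_singleton _ _).mp hs, b, hb, hsb⟩
  have : a = b * a := by rw [eq_sub_of_add_eq' hsb, sub_mul, one_mul, hs, sub_zero]
  rw [this]
  exact Ideal.mul_mem_mul hb haJ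

/-- A function vanishing near `T ∩ D(f)` vanishes near `T` after multiplying by a power of `f`. -/
theorem exists_pow_mul_mem (hc : IsClosed T) (hg : StableUnderGeneralization T) {f a : A}
    (ha : ∀ q ∈ T, f ∉ q.asIdeal → ∃ s ∉ q.asIdeal, s * a = 0) :
    ∃ m : ℕ, f ^ m * a ∈ pureIdeal T := by
  classical
  have key : ∀ q : T, ∃ s ∉ (q : PrimeSpectrum A).asIdeal, ∃ m : ℕ, s * f ^ m * a = 0 := by
    intro q
    by_contra! h
    let S : Submonoid A := (q : PrimeSpectrum A).asIdeal.primeCompl ⊔ Submonoid.powers f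
    let I : Ideal A := Submodule.annihilator (Ideal.span {a} : Ideal A)
    have hS : Disjoint (I : Set A) S := by
      rw [Set.disjoint_left]
      intro x hx hxS
      obtain ⟨s, hs, _, ⟨m, rfl⟩, rfl⟩ := Submonoid.mem_sup.mp hxS
      exact h s hs m ((Submodule.mem_annihilator_span_singleton _ _).mp hx)
    obtain ⟨r, hr, hIr, hrS⟩ := Ideal.exists_le_prime_disjoint I S hS
    let r' : PrimeSpectrum A := ⟨r, hr⟩
    have hrq : r' ⤳ q := (le_iff_specializes _ _).mp fun x hx => by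
      by_contra hxq
      exact Set.disjoint_left.mp hrS hx (le_sup_left (α := Submonoid A) hxq)
    obtain ⟨s, hs, hsa⟩ := ha r' (hg hrq q.2) fun hf =>
      Set.disjoint_left.mp hrS hf (le_sup_right (α := Submonoid A) (Submonoid.mem_powers f))
    exact hs (hIr ((Submodule.mem_annihilator_span_singleton _ _).mpr hsa))
  choose s hs m hm using key
  obtain ⟨F, hF⟩ := hc.isCompact.elim_finite_subcover (fun q : T => ((basicOpen (s q) : TopologicalSpace.Opens (PrimeSpectrum A)) : Set (PrimeSpectrum A)))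
    (fun q => (basicOpen (s q)).2) fun q hq => Set.mem_iUnion.mpr ⟨⟨q, hq⟩, hs ⟨q, hq⟩⟩
  refine ⟨F.sup m, fun q hq => ?_⟩
  obtain ⟨q', hq', hqs⟩ := Set.mem_iUnion₂.mp (hF hq)
  refine ⟨s q', hqs, ?_⟩
  obtain ⟨k, hk⟩ := Nat.exists_eq_add_of_le (Finset.le_sup (f := m) hq')
  rw [hk, pow_add, mul_comm (f ^ m q'), mul_assoc, ← mul_left_comm (f ^ k), ← mul_assoc (s q'), hm,
    mul_zero]

end Groth.Agent.FlatModB
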