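import Groth.Agent.FlatProj.Basic
import Mathlib

/-! # finite flat modules with open rank loci are finitely presented -/

set_option autoImplicit false
universe u

namespace Groth.Agent.FlatModB

open TensorProduct PrimeSpectrum Groth.Agent.FlatProj

variable {R : Type u} [CommRing R] {M : Type u} [AddCommGroup M] [Module R M]

theorem isClosed_rank_ge [Module.Finite R M] [Module.Flat R M] (n : ℕ) :
    IsClosed {q : PrimeSpectrum R | n ≤ Module.rankAtStalk M q} := by
  rw [← isOpen_compl_iff, isOpen_iff_forall_mem_open]
  intro p hp
  obtain ⟨v, hv⟩ := exists_nhd_generators (M := M) p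
  refine ⟨_, fun q hq => ?_, Module.isClosed_support.isOpen_compl, hv⟩
  simp only [Set.mem_compl_iff, Set.mem_setOf_eq, not_le] at hp ⊢
  exact (rank_le_of_notMem_support v hq).trans_lt hp

theorem finitePresentation_of_rank_open
    [Module.Finite R M] [Module.Flat R M]
    (h : ∀ n, IsOpen {q : PrimeSpectrum R | n ≤ Module.rankAtStalk M q}) :
    Module.FinitePresentation R M := by
  classical
  let s : Set R := {g | Module.FinitePresentation (Localization.Away g)
    (LocalizedModule.Away g M)}
  refine Module.FinitePresentation.of_localizationSpan s ?_ fun g => g.2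
  rw [← PrimeSpectrum.zeroLocus_empty_iff_eq_top, PrimeSpectrum.zeroLocus_span,
    Set.eq_empty_iff_forall_notMem]
  intro p hp
  set n := Module.rankAtStalk M p with hn
  obtain ⟨v, hv⟩ : ∃ v : Fin n → M, p ∉ Module.support R (M ⧸ Submodule.span R (Set.range v)) :=
    exists_nhd_generators (M := M) p
  let W := (Module.support R (M ⧸ Submodule.span R (Set.range v)))ᶜ ∩
    {q : PrimeSpectrum R | n ≤ Module.rankAtStalk M q}
  have hW : IsOpen W :=
    Module.isClosed_support.isOpen_compl.inter (h n)
  obtain ⟨_, ⟨_, ⟨g, rfl⟩, rfl⟩, hpg, hgW⟩ :=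
    PrimeSpectrum.isBasis_basic_opens.exists_subset_of_mem_open (a := p) (show p ∈ W from ⟨hv, le_refl n⟩) hW
  refine hpg (hp (?_ : g ∈ s))
  set f := Fintype.linearCombination R v with hf
  have hrange : LinearMap.range f = Submodule.span R (Set.range v) :=
    Fintype.range_linearCombination R v
  have hpow : ∀ (J : Ideal R), (∀ q : PrimeSpectrum R, g ∉ q.asIdeal → ¬ J ≤ q.asIdeal) →
      ∃ j : ℕ, g ^ j ∈ J := by
    intro J hJ
    rw [← Ideal.mem_radical_iff, Ideal.radical_eq_sInf, Submodule.mem_sInf]
    intro q hq
    by_contra hgq
    exact hJ ⟨q, hq.2⟩ hgq hq.1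
  have hsurj : ∀ m : M, ∃ j : ℕ, g ^ j • m ∈ LinearMap.range f := by
    intro m
    obtain ⟨j, hj⟩ := hpow ((LinearMap.range f).colon {m}) fun q hgq hle => by
      have hsupp : q ∉ Module.support R (M ⧸ Submodule.span R (Set.range v)) := (hgW hgq).1
      obtain ⟨r, hr, hr0⟩ := Module.notMem_support_iff'.mp hsupp (Submodule.Quotient.mk m)
      refine hr (hle ?_)
      rw [Submodule.mem_colon_singleton, hrange, ← Submodule.Quotient.mk_eq_zero,
        Submodule.Quotient.mk_smul, hr0]
    exact ⟨j, Submodule.mem_colon_singleton.mp hj⟩
  have hinj : ∀ x, f x = 0 → ∃ j : ℕ, g ^ j • x = 0 := by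
    intro x hx
    obtain ⟨j, hj⟩ := hpow (Submodule.span R {x}).annihilator fun q hgq hle => by
      obtain ⟨hsupp, hge⟩ := hgW hgq
      have hrank : Module.rankAtStalk M q = n :=
        le_antisymm (rank_le_of_notMem_support v hsupp) hge
      let A := Localization.AtPrime q.asIdeal
      haveI : Module.Free A (LocalizedModule q.asIdeal.primeCompl M) :=
        Module.free_of_flat_of_isLocalRing
      haveI : Module.Free A (LocalizedModule q.asIdeal.primeCompl (Fin n → R)) :=
        Module.free_of_flat_of_isLocalRing
      let fq := LocalizedModule.map q.asIdeal.primeCompl f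
      have hfq : Function.Surjective fq := by
        intro y
        induction y using LocalizedModule.induction_on with
        | _ m t =>
          obtain ⟨r, hr, hr0⟩ := Module.notMem_support_iff'.mp hsupp (Submodule.Quotient.mk m)
          rw [← Submodule.Quotient.mk_smul, Submodule.Quotient.mk_eq_zero, ← hrange] at hr0
          obtain ⟨y, hy⟩ := hr0
          refine ⟨LocalizedModule.mk y (⟨r, hr⟩ * t), ?_⟩
          rw [LocalizedModule.map_mk, hy]
          exact LocalizedModule.mk_cancel_common_left ⟨r, hr⟩ t m
      have hfin : Module.finrank A (LocalizedModule q.asIdeal.primeCompl (Fin n → R)) =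
          Module.finrank A (LocalizedModule q.asIdeal.primeCompl M) := by
        rcases subsingleton_or_nontrivial R with hR | hR
        · exact absurd (Subsingleton.elim (1 : R) 0 ▸ zero_mem _) q.asIdeal.one_notMem
        · rw [show Module.finrank A (LocalizedModule q.asIdeal.primeCompl M) = n from hrank]
          exact (congrFun (Module.rankAtStalk_eq_finrank_of_free (R := R) (M := Fin n → R)) q).trans
            (Module.finrank_fin_fun R)
      let e := LinearEquiv.ofFinrankEq _ _ hfin
      have hbij : Function.Injective fq := by
        have := OrzechProperty.injective_of_surjective_endomorphism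
          (e.symm.toLinearMap ∘ₗ fq) (e.symm.surjective.comp hfq)
        exact this.of_comp (f := e.symm)
      have h0 : LocalizedModule.mk x (1 : q.asIdeal.primeCompl) = 0 := by
        apply hbij
        rw [LocalizedModule.map_mk, hx, map_zero, LocalizedModule.zero_mk]
      rw [← LocalizedModule.zero_mk 1, LocalizedModule.mk_eq] at h0
      obtain ⟨t, ht⟩ := h0
      simp only [one_smul, smul_zero, Submonoid.smul_def] at ht
      exact t.2 (hle (by rw [Submodule.mem_annihilator_span_singleton]; exact ht))
    exact ⟨j, by rwa [Submodule.mem_annihilator_span_singleton] at hj⟩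
  have hbij : Function.Bijective (LocalizedModule.map (Submonoid.powers g) f) := by
    constructor
    · rw [injective_iff_map_eq_zero]
      intro y
      induction y using LocalizedModule.induction_on with
      | _ x t =>
        intro hy
        rw [LocalizedModule.map_mk, ← LocalizedModule.zero_mk t, LocalizedModule.mk_eq] at hy
        obtain ⟨⟨_, i, rfl⟩, hi⟩ := hy
        simp only [smul_zero, Submonoid.smul_def] at hi
        obtain ⟨j, hj⟩ := hinj (g ^ i • (t : R) • x) (by rw [map_smul, map_smul, hi])
        rw [← LocalizedModule.zero_mk t, LocalizedModule.mk_eq]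
        refine ⟨⟨g ^ (j + i), j + i, rfl⟩, ?_⟩
        simp only [smul_zero, Submonoid.smul_def, pow_add, mul_smul, hj]
    · intro y
      induction y using LocalizedModule.induction_on with
      | _ m t =>
        obtain ⟨j, z, hz⟩ := hsurj m
        refine ⟨LocalizedModule.mk z ((⟨g ^ j, j, rfl⟩ : Submonoid.powers g) * t), ?_⟩
        rw [LocalizedModule.map_mk, hz]
        exact LocalizedModule.mk_cancel_common_left (⟨g ^ j, j, rfl⟩ : Submonoid.powers g) t m
  exact Module.finitePresentation_of_surjective _ hbij.2
    (by rw [LinearMap.ker_eq_bot.mpr hbij.1]; exact Submodule.fg_bot)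

end Groth.Agent.FlatModB
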